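import Groth.Agent.IdealMulLib.Basic
import Groth.Agent.InfNbhdLib.Scheme
import Groth.Prelude.Def_BlowUp2
import Mathlib.RingTheory.Ideal.KrullsHeightTheorem
import Mathlib.AlgebraicGeometry.Properties
import Mathlib.AlgebraicGeometry.FunctionField
import Mathlib.AlgebraicGeometry.Noetherian

/-!
# Integral effective Cartier divisors, stalk by stalk
-/

set_option autoImplicit false
universe u
open CategoryTheory CategoryTheory.Limits AlgebraicGeometry TopologicalSpace IsLocalRing IntMult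

namespace Groth.Agent.DivisorialLib

variable {X : Scheme.{u}}

theorem stalkIdeal_mul (I J : X.IdealSheafData) (x : X) :
    stalkIdeal (I * J) x = stalkIdeal I x * stalkIdeal J x := by
  obtain ⟨_, ⟨U : X.Opens, hU, rfl⟩, hxU, -⟩ := X.isBasis_affineOpens.exists_subset_of_mem_open (Set.mem_univ x) isOpen_univ
  rw [IdealStalkLib.stalkIdeal_eq _ ⟨U, hU⟩ x hxU, IdealStalkLib.stalkIdeal_eq _ ⟨U, hU⟩ x hxU,
    IdealStalkLib.stalkIdeal_eq _ ⟨U, hU⟩ x hxU, ← Ideal.map_mul]
  rfl

theorem stalkIdeal_top (x : X) : stalkIdeal (⊤ : X.IdealSheafData) x = ⊤ := by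
  refine IdealMulLib.stalkIdeal_eq_top _ ?_
  rw [Scheme.IdealSheafData.support_top]
  exact fun h => h

theorem stalkIdeal_one (x : X) : stalkIdeal (1 : X.IdealSheafData) x = ⊤ := by
  exact stalkIdeal_top x

theorem map_stalkSpecializes (I : X.IdealSheafData) {y x : X} (h : y ⤳ x) :
    (stalkIdeal I x).map (X.presheaf.stalkSpecializes h).hom = stalkIdeal I y := by
  obtain ⟨_, ⟨U : X.Opens, hU, rfl⟩, hxU, -⟩ := X.isBasis_affineOpens.exists_subset_of_mem_open (Set.mem_univ x) isOpen_univ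
  rw [IdealStalkLib.stalkIdeal_eq _ ⟨U, hU⟩ x hxU, IdealStalkLib.stalkIdeal_eq _ ⟨U, hU⟩ y (h.mem_open U.2 hxU),
    Ideal.map_map, ← CommRingCat.hom_comp, X.presheaf.germ_stalkSpecializes]

theorem mem_support_of_ne_top {I : X.IdealSheafData} {x : X} (h : stalkIdeal I x ≠ ⊤) : x ∈ I.support :=
  by_contra fun hx => h (IdealMulLib.stalkIdeal_eq_top I hx)

theorem le_of_stalk {I J : X.IdealSheafData} (h : ∀ x : X, stalkIdeal I x ≤ stalkIdeal J x) : I ≤ J := by
  intro U r hr
  have hU := U.2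
  by_contra hrJ
  let C : Ideal Γ(X, U.1) := Submodule.comap (LinearMap.toSpanSingleton Γ(X, U.1) Γ(X, U.1) r) (J.ideal U)
  have hC : C ≠ ⊤ := fun h1 => hrJ (by
    have h2 : (1 : Γ(X, U.1)) ∈ C := h1 ▸ Submodule.mem_top
    simpa [C] using h2)
  obtain ⟨P, hP, hCP⟩ := C.exists_le_maximal hC
  let y : X := hU.fromSpec ⟨P, hP.isPrime⟩
  have hy : y ∈ U.1 := hU.range_fromSpec.le ⟨_, rfl⟩
  have hPy : (hU.primeIdealOf ⟨y, hy⟩).asIdeal = P := by
    rw [show hU.primeIdealOf ⟨y, hy⟩ = (⟨P, hP.isPrime⟩ : PrimeSpectrum Γ(X, U.1)) from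
      hU.fromSpec.isOpenEmbedding.injective (hU.fromSpec_primeIdealOf ⟨y, hy⟩)]
  letI : Algebra Γ(X, U.1) (X.presheaf.stalk y) := TopCat.Presheaf.algebra_section_stalk X.presheaf ⟨y, hy⟩
  haveI := hU.isLocalization_stalk ⟨y, hy⟩
  have h1 : algebraMap Γ(X, U.1) (X.presheaf.stalk y) r ∈ (J.ideal U).map (algebraMap Γ(X, U.1) (X.presheaf.stalk y)) := by
    have h2 := h y (by rw [IdealStalkLib.stalkIdeal_eq I U y hy]; exact Ideal.mem_map_of_mem _ hr)
    rwa [IdealStalkLib.stalkIdeal_eq J U y hy] at h2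
  obtain ⟨t, ht, htr⟩ := (IsLocalization.algebraMap_mem_map_algebraMap_iff (hU.primeIdealOf ⟨y, hy⟩).asIdeal.primeCompl _ _ r).1 h1
  refine ht (hPy.symm ▸ hCP ?_)
  show t • r ∈ J.ideal U
  exact htr

theorem ext_stalk {I J : X.IdealSheafData} (h : ∀ x : X, stalkIdeal I x = stalkIdeal J x) : I = J :=
  le_antisymm (le_of_stalk fun x => (h x).le) (le_of_stalk fun x => (h x).ge)

/-- Ideal sheaves agreeing at a point agree near it. -/
theorem exists_nhd_ideal_eq [IsLocallyNoetherian X] (I J : X.IdealSheafData) (x : X)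
    (h : stalkIdeal I x = stalkIdeal J x) : ∃ V : X.affineOpens, x ∈ V.1 ∧ I.ideal V = J.ideal V := by
  obtain ⟨_, ⟨U : X.Opens, hU, rfl⟩, hxU, -⟩ := X.isBasis_affineOpens.exists_subset_of_mem_open (Set.mem_univ x) isOpen_univ
  haveI : IsNoetherianRing Γ(X, U) := IsLocallyNoetherian.component_noetherian ⟨U, hU⟩
  letI : Algebra Γ(X, U) (X.presheaf.stalk x) := TopCat.Presheaf.algebra_section_stalk X.presheaf ⟨x, hxU⟩
  haveI := hU.isLocalization_stalk ⟨x, hxU⟩
  rw [IdealStalkLib.stalkIdeal_eq I ⟨U, hU⟩ x hxU, IdealStalkLib.stalkIdeal_eq J ⟨U, hU⟩ x hxU] at h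
  obtain ⟨t, htq, ht⟩ := IdealStalkLib.exists_notMem_map_away_eq (O := X.presheaf.stalk x)
    (hU.primeIdealOf ⟨x, hxU⟩).asIdeal (I.ideal ⟨U, hU⟩) (J.ideal ⟨U, hU⟩) (IsNoetherian.noetherian _) (IsNoetherian.noetherian _) h
  have hxt : x ∈ X.basicOpen t := by
    rw [X.mem_basicOpen t x hxU]
    exact IsLocalization.map_units (X.presheaf.stalk x) (⟨t, htq⟩ : (hU.primeIdealOf ⟨x, hxU⟩).asIdeal.primeCompl)
  letI : Algebra Γ(X, U) Γ(X, X.basicOpen t) := (X.presheaf.map (homOfLE (X.basicOpen_le t)).op).hom.toAlgebra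
  haveI : IsLocalization.Away t Γ(X, X.basicOpen t) := hU.isLocalization_basicOpen t
  refine ⟨X.affineBasicOpen (U := ⟨U, hU⟩) t, hxt, ?_⟩
  rw [← I.map_ideal_basicOpen ⟨U, hU⟩ t, ← J.map_ideal_basicOpen ⟨U, hU⟩ t]
  exact ht _ (IsLocalization.Away.algebraMap_isUnit t)

/-! ## One divisor -/

theorem exists_gen {D : X.IdealSheafData} (hD : BlowUp.IsEffCartierIdeal D) (x : X) :
    ∃ f : X.presheaf.stalk x, f ∈ nonZeroDivisors (X.presheaf.stalk x) ∧ stalkIdeal D x = Ideal.span {f} := by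
  obtain ⟨U, hxU, g, hg, hgU⟩ := hD x
  letI : Algebra Γ(X, U.1) (X.presheaf.stalk x) := TopCat.Presheaf.algebra_section_stalk X.presheaf ⟨x, hxU⟩
  haveI := U.2.isLocalization_stalk ⟨x, hxU⟩
  refine ⟨algebraMap Γ(X, U.1) (X.presheaf.stalk x) g, IsLocalization.map_nonZeroDivisors_le (U.2.primeIdealOf ⟨x, hxU⟩).asIdeal.primeCompl _ ⟨g, hg, rfl⟩, ?_⟩
  rw [IdealStalkLib.stalkIdeal_eq D U x hxU, hgU, Ideal.map_span, Set.image_singleton]
  rfl

variable (D : X.IdealSheafData) [IsIntegral D.subscheme]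

/-- The generic point of an integral closed subscheme. -/
noncomputable def genPt : X := D.subschemeι (genericPoint D.subscheme)

theorem genPt_mem : genPt D ∈ D.support := by
  show genPt D ∈ (D.support : Set X)
  rw [← Scheme.IdealSheafData.range_subschemeι]
  exact ⟨_, rfl⟩

theorem specializes_genPt {x : X} (hx : x ∈ D.support) : genPt D ⤳ x := by
  obtain ⟨z, rfl⟩ : ∃ z, D.subschemeι z = x := by
    rw [← Set.mem_range, Scheme.IdealSheafData.range_subschemeι]; exact hx
  exact ((genericPoint_spec D.subscheme).specializes trivial).map D.subschemeι.continuous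

theorem stalkIdeal_genPt : stalkIdeal D (genPt D) = maximalIdeal (X.presheaf.stalk (genPt D)) := by
  rw [genPt, ← IdealStalkLib.ker_stalkMap_subschemeι]
  refine IsLocalRing.eq_maximalIdeal ?_
  exact @RingHom.ker_isMaximal_of_surjective _ D.subscheme.functionField _ _ _ _ _ _
    (D.subschemeι.stalkMap_surjective (genericPoint D.subscheme))

/-- Membership in the ideal of the divisor is decided at its generic point. -/
theorem mem_stalkIdeal_iff {x : X} (h : genPt D ⤳ x) (hx : x ∈ D.support) (t : X.presheaf.stalk x) :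
    t ∈ stalkIdeal D x ↔ X.presheaf.stalkSpecializes h t ∈ maximalIdeal (X.presheaf.stalk (genPt D)) := by
  rw [← stalkIdeal_genPt]
  refine ⟨fun ht => by rw [← map_stalkSpecializes D h]; exact Ideal.mem_map_of_mem _ ht, fun ht => ?_⟩
  obtain ⟨z, rfl⟩ : ∃ z, D.subschemeι z = x := by
    rw [← Set.mem_range, Scheme.IdealSheafData.range_subschemeι]; exact hx
  replace ht : D.subschemeι.stalkMap (genericPoint D.subscheme) (X.presheaf.stalkSpecializes h t) = 0 :=
    (IdealStalkLib.ker_stalkMap_subschemeι D (genericPoint D.subscheme)).ge ht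
  rw [← IdealStalkLib.ker_stalkMap_subschemeι, RingHom.mem_ker]
  have hz := (genericPoint_spec D.subscheme).specializes (show z ∈ (⊤ : Set D.subscheme) from trivial)
  have h1 : D.subscheme.presheaf.stalkSpecializes hz (D.subschemeι.stalkMap z t) = 0 := by
    rw [← Scheme.Hom.stalkSpecializes_stalkMap_apply]
    exact ht
  exact IsFractionRing.injective (D.subscheme.presheaf.stalk z) D.subscheme.functionField (h1.trans (map_zero _).symm)

/-- A power of the divisor is decided at its generic point. -/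
theorem mem_pow_of_map_mem (hD : BlowUp.IsEffCartierIdeal D) {x : X} (h : genPt D ⤳ x) (hx : x ∈ D.support)
    {f : X.presheaf.stalk x} (hf : stalkIdeal D x = Ideal.span {f}) :
    ∀ (n : ℕ) (c : X.presheaf.stalk x), X.presheaf.stalkSpecializes h c ∈
      maximalIdeal (X.presheaf.stalk (genPt D)) ^ n → c ∈ Ideal.span {f} ^ n := by
  let φ := (X.presheaf.stalkSpecializes h).hom
  obtain ⟨g, hg, hgD⟩ := exists_gen hD (genPt D)
  have hm : maximalIdeal (X.presheaf.stalk (genPt D)) = Ideal.span {φ f} := by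
    rw [← stalkIdeal_genPt, ← map_stalkSpecializes D h, hf, Ideal.map_span, Set.image_singleton]
  have hreg : ∀ w, φ f * w = 0 → w = 0 := fun w hw => by
    rw [← stalkIdeal_genPt, hgD] at hm
    obtain ⟨v, rfl⟩ := Ideal.mem_span_singleton'.1 (hm ▸ Ideal.mem_span_singleton_self g)
    exact mem_nonZeroDivisors_iff_right.1 hg w (by rw [show w * (v * φ f) = v * (φ f * w) by ring, hw, mul_zero])
  intro n
  induction n with
  | zero => intro c _; rw [pow_zero, Ideal.one_eq_top]; trivial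
  | succ n ih =>
    intro c hc
    have h1 : c ∈ Ideal.span {f} := by
      rw [← hf, mem_stalkIdeal_iff D h hx]
      exact Ideal.pow_le_self n.succ_ne_zero hc
    obtain ⟨c', rfl⟩ := Ideal.mem_span_singleton'.1 h1
    rw [hm, Ideal.span_singleton_pow, Ideal.mem_span_singleton'] at hc
    obtain ⟨w, hw⟩ := hc
    rw [pow_succ]
    refine Ideal.mul_mem_mul (ih c' ?_) (Ideal.mem_span_singleton_self f)
    rw [hm, Ideal.span_singleton_pow, Ideal.mem_span_singleton']
    refine ⟨w, ?_⟩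
    have h2 : φ f * (w * φ f ^ n - φ c') = 0 := by
      have h3 : φ (c' * f) = φ c' * φ f := map_mul _ _ _
      have hw' : w * φ f ^ (n + 1) = φ (c' * f) := hw
      rw [show φ f * (w * φ f ^ n - φ c') = w * φ f ^ (n + 1) - φ c' * φ f by ring, hw', h3, sub_self]
    exact sub_eq_zero.1 (hreg _ h2)

end Groth.Agent.DivisorialLib
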